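import Cfsg.Agent.Known.SubG.Two

/-!
The tables for the seven types.
-/

set_option autoImplicit false
set_option maxRecDepth 4000
set_option synthInstance.maxSize 4000
set_option synthInstance.maxHeartbeats 400000

namespace Cfsg.Agent.Known.SubG

open Cfsg.Lie

private theorem forall_mem_option_iff {α : Type} (o : Option α) (p : α → Prop) :
    (∀ e ∈ o, p e) ↔ ∀ e ∈ o.toList, p e := by simp

local instance decForallOption {α : Type} (o : Option α) (p : α → Prop) [DecidablePred p] :
    Decidable (∀ e ∈ o, p e) := decidable_of_iff _ (forall_mem_option_iff o p).symm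

/-- The highest root of G2. -/
def topG2 : Top chevG2 :=
  { th := 11, ga := 10, ja := 1, i0 := 1, w0 := [0, 1], chain := [(0, 1)], M1 := -1, C := 1,
    E1 := -1, E2 := -1, R1 := [], R2 := [] }

theorem okG2 : topG2.ok := by
  unfold Top.ok
  decide +kernel

theorem longG2 : topG2.long := by
  unfold Top.long
  decide +kernel

/-- The highest root of B2. -/
def topB2 : Top chevB2 :=
  { th := 7, ga := 6, ja := 0, i0 := 1, w0 := [0], chain := [(0, 1)], M1 := -1, C := 2,
    E1 := -1, E2 := -1, R1 := [(4, 1, 1, 2)], R2 := [(4, -1, 1, 2)] }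

theorem okB2 : topB2.ok := by
  unfold Top.ok
  decide +kernel

/-- The highest root of D4. -/
def topD4 : Top chevD4 :=
  { th := 23, ga := 22, ja := 1, i0 := 3, w0 := [1, 2, 0, 1], chain := [(1, 3), (0, 1), (2, 1)], M1 := -1, C := 1,
    E1 := -1, E2 := -1, R1 := [], R2 := [] }

theorem okD4 : topD4.ok := by
  unfold Top.ok
  decide +kernel

theorem longD4 : topD4.long := by
  unfold Top.long
  decide +kernel

theorem betaD4 : topD4.beta 0 6 := by
  unfold Top.beta
  decide +kernel

/-- The highest root of F4. -/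
def topF4 : Top chevF4 :=
  { th := 47, ga := 46, ja := 3, i0 := 3, w0 := [2, 1, 2, 0, 1, 2, 3], chain := [(2, 3), (1, 2), (0, 1)], M1 := -1, C := 1,
    E1 := -1, E2 := -1, R1 := [], R2 := [] }

theorem okF4 : topF4.ok := by
  unfold Top.ok
  decide +kernel

theorem longF4 : topF4.long := by
  unfold Top.long
  decide +kernel

theorem betaF4 : topF4.beta 2 2 := by
  unfold Top.beta
  decide +kernel

/-- The highest root of E6. -/
def topE6 : Top chevE6 :=
  { th := 71, ga := 70, ja := 1, i0 := 5, w0 := [4, 3, 2, 1, 3, 4, 0, 2, 3, 1], chain := [(4, 5), (3, 4), (1, 3), (2, 3), (0, 2)], M1 := -1, C := 1,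
    E1 := -1, E2 := -1, R1 := [], R2 := [] }

theorem okE6 : topE6.ok := by
  unfold Top.ok
  decide +kernel

theorem longE6 : topE6.long := by
  unfold Top.long
  decide +kernel

theorem betaE6 : topE6.beta 3 2 := by
  unfold Top.beta
  decide +kernel

/-- The highest root of E7. -/
def topE7 : Top chevE7 :=
  { th := 125, ga := 124, ja := 0, i0 := 6, w0 := [5, 4, 3, 2, 1, 3, 4, 5, 0, 2, 3, 4, 1, 3, 2, 0], chain := [(5, 6), (4, 5), (3, 4), (1, 3), (2, 3), (0, 2)], M1 := -1, C := 1,
    E1 := -1, E2 := -1, R1 := [], R2 := [] }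

theorem okE7 : topE7.ok := by
  unfold Top.ok
  decide +kernel

theorem longE7 : topE7.long := by
  unfold Top.long
  decide +kernel

theorem betaE7 : topE7.beta 2 2 := by
  unfold Top.beta
  decide +kernel

/-- The highest root of E8. -/
def topE8 : Top chevE8 :=
  { th := 239, ga := 238, ja := 7, i0 := 7, w0 := [6, 5, 4, 3, 2, 1, 3, 4, 5, 6, 0, 2, 3, 4, 5, 1, 3, 4, 2, 3, 0, 2, 1, 3, 4, 5, 6, 7], chain := [(6, 7), (5, 6), (4, 5), (3, 4), (1, 3), (2, 3), (0, 2)], M1 := -1, C := 1,
    E1 := -1, E2 := -1, R1 := [], R2 := [] }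

theorem okE8 : topE8.ok := by
  unfold Top.ok
  decide +kernel

theorem longE8 : topE8.long := by
  unfold Top.long
  decide +kernel

theorem betaE8 : topE8.beta 6 2 := by
  unfold Top.beta
  decide +kernel

end Cfsg.Agent.Known.SubG
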