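import Cfsg.Agent.Chev.Rules
import Cfsg.Agent.ChevGrp.Bridge
import Cfsg.Agent.ChevGrp.Torus
import Cfsg.Agent.ChevGrp.FieldAut

/-!
The highest root in the Chevalley matrix groups: fixed row and column, the cell of an element with non-zero
extreme entry.
-/

set_option autoImplicit false
set_option linter.unusedSectionVars false

namespace Cfsg.Agent.Known.SubG

open Cfsg.Lie Cfsg.Agent.ChevGrp
open scoped MatrixGroups

variable {D : ChevalleyDatum} {k : Type*} [Field k] {len : ℕ → ℕ}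

/-- Table facts on the highest root `th`, the roots `ga = th - a` and the fundamental root `a`. -/
structure Top (D : ChevalleyDatum) where
  th : ℕ
  ga : ℕ
  ja : ℕ
  i0 : ℕ
  w0 : List ℕ
  chain : List (ℕ × ℕ)
  M1 : ℤ
  C : ℤ
  E1 : ℤ
  E2 : ℤ
  R1 : List (ℕ × ℤ × ℕ × ℕ)
  R2 : List (ℕ × ℤ × ℕ × ℕ)

namespace Top

variable (T : Top D)

/-- The fundamental root. -/
def a : ℕ := D.simple T.ja

/-- The decidable facts. -/
def ok : Prop :=
  (T.th < D.nroots ∧ T.ga < D.nroots ∧ T.ja < D.rank ∧ T.i0 < D.rank ∧ D.IsPosRoot T.th ∧ D.IsPosRoot T.ga) ∧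
  (T.th ≠ T.ga ∧ T.ga ≠ T.a ∧ T.a ≠ T.th ∧ T.ga ≠ D.neg T.a ∧ T.ga ≠ D.neg T.th ∧ D.neg T.a ≠ T.th ∧
    D.neg T.a ≠ D.neg T.th ∧ D.neg T.ga ≠ D.neg T.th) ∧
  (∀ r < D.nroots, D.IsPosRoot r → r ≠ T.th → D.commTerms r T.th = []) ∧
  (∀ r < D.nroots, D.IsPosRoot r → r ≠ T.a → r ≠ T.ga → D.commTerms r T.ga = []) ∧
  (∀ r < D.nroots, D.IsPosRoot r → ∀ e ∈ (D.chain.getD r #[]).toList, e.1 ≠ T.th) ∧
  (∀ r < D.nroots, D.IsPosRoot r → ∀ e ∈ (D.chain.getD r #[]).toList, ∀ q ∈ e.2.toList,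
    q.1 ≠ D.neg T.th ∧ (q.1 = D.neg T.ga → r = T.a ∧ e.1 = D.neg T.th)) ∧
  (D.chainCoeff T.a (D.neg T.th) (D.neg T.ga) = [(1, T.M1)] ∧ (T.M1 = 1 ∨ T.M1 = -1)) ∧
  (D.commTerms T.a T.ga = [(T.th, T.C, 1, 1)] ∧ (T.C = 1 ∨ T.C = -1 ∨ T.C = 2 ∨ T.C = -2)) ∧
  (D.commTerms (D.neg T.th) T.ga = (D.neg T.a, T.E1, 1, 1) :: T.R1 ∧ (T.E1 = 1 ∨ T.E1 = -1)) ∧
  (D.commTerms T.th (D.neg T.a) = (T.ga, T.E2, 1, 1) :: T.R2 ∧ (T.E2 = 1 ∨ T.E2 = -1)) ∧
  (Chev.torusExp D T.th T.ga = 1 ∧ Chev.torusExp D T.th (D.neg T.a) = -1 ∧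
    ∀ c ∈ T.R1 ++ T.R2, c.1 < D.nroots ∧ Chev.torusExp D T.th c.1 = 0) ∧
  (T.w0.foldr (fun i s => D.reflectRoot i s) T.th = D.simple T.i0 ∧ (∀ i ∈ T.w0, i < D.rank) ∧
    (∀ i < D.rank, i = T.i0 ∨ i ∈ T.chain.map Prod.fst) ∧
    (∀ n < T.chain.length, ∀ e ∈ T.chain[n]?, e.1 < D.rank ∧ e.2 < D.rank ∧
      D.cartan e.2 (D.simple e.1) = -1 ∧ (e.2 = T.i0 ∨ e.2 ∈ (T.chain.take n).map Prod.fst)))

end Top

/-- Targets of the chain table. -/
theorem chainCoeff_eq_nil {r s z : ℕ}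
    (h : ∀ e ∈ (D.chain.getD r #[]).toList, ∀ q ∈ e.2.toList, q.1 = z → e.1 ≠ s) :
    D.chainCoeff r s z = [] := by
  rw [List.eq_nil_iff_forall_not_mem]
  intro c hc
  simp only [ChevalleyDatum.chainCoeff, List.mem_flatMap, List.mem_filter, decide_eq_true_eq, List.mem_map] at hc
  obtain ⟨e, ⟨he, hes⟩, q, ⟨hq, hz⟩, -⟩ := hc
  have hq' : q.1 ∈ e.2.toList := by
    obtain ⟨_, _, h3⟩ := List.mem_zipIdx hq
    rw [h3]; exact List.getElem_mem _
  exact h e he q.1 hq' hz hes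

section Entries

variable {r : ℕ}

/-- A row that is not hit. -/
theorem x_row (hr : r < D.nroots) (t : k) (z : Fin D.nroots) (hz : (z : ℕ) ≠ r)
    (h : ∀ s : Fin D.nroots, D.chainCoeff r s z = []) (col : D.Idx) :
    D.x k r t (Sum.inr z) col = (1 : Matrix D.Idx D.Idx k) (Sum.inr z) col := by
  rw [ChevalleyDatum.x, dif_pos hr]
  rcases col with j | s
  · simp [ChevalleyDatum.xMat, Matrix.one_apply, Fin.ext_iff, hz]
  · by_cases h1 : s = ⟨r, hr⟩
    · subst h1
      simp [ChevalleyDatum.xMat, Matrix.one_apply, Fin.ext_iff, hz]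
    · have h1' : (s : ℕ) ≠ r := fun e => h1 (Fin.ext e)
      by_cases h2 : (s : ℕ) = D.negIdx.getD r 0
      · simp [ChevalleyDatum.xMat, Matrix.one_apply, -Array.getD_eq_getD_getElem?, h1, h1', h2, Fin.ext_iff, hz]
        intro e; exact absurd (h2.trans e) h1'
      · simp [ChevalleyDatum.xMat, Matrix.one_apply, -Array.getD_eq_getD_getElem?, h1, h1', h2, h s, Fin.ext_iff]

/-- A row hit from one column. -/
theorem x_row_one (hr : r < D.nroots) (t : k) (z s0 : Fin D.nroots) (hz : (z : ℕ) ≠ r)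
    (hs : (s0 : ℕ) ≠ r) (hs' : (s0 : ℕ) ≠ D.neg r)
    (h : ∀ s : Fin D.nroots, s ≠ s0 → D.chainCoeff r s z = []) (col : D.Idx) :
    D.x k r t (Sum.inr z) col = (1 : Matrix D.Idx D.Idx k) (Sum.inr z) col +
      if col = Sum.inr s0 then ((D.chainCoeff r s0 z).map fun km => ((km.2 : ℤ) : k) * t ^ km.1).sum else 0 := by
  have hs2 : (s0 : ℕ) ≠ D.negIdx.getD r 0 := hs'
  rw [ChevalleyDatum.x, dif_pos hr]
  rcases col with j | s
  · simp [ChevalleyDatum.xMat, Matrix.one_apply, Fin.ext_iff, hz]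
  · by_cases h0 : s = s0
    · subst h0
      simp [ChevalleyDatum.xMat, Matrix.one_apply, -Array.getD_eq_getD_getElem?, Fin.ext_iff, hs, hs2]
    · by_cases h1 : s = ⟨r, hr⟩
      · subst h1
        simp [ChevalleyDatum.xMat, Matrix.one_apply, Fin.ext_iff, hz, h0]
      · have h1' : (s : ℕ) ≠ r := fun e => h1 (Fin.ext e)
        by_cases h2 : (s : ℕ) = D.negIdx.getD r 0
        · simp [ChevalleyDatum.xMat, Matrix.one_apply, -Array.getD_eq_getD_getElem?, h1, h1', h2, hz, h0, Fin.ext_iff]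
          intro e; exact absurd (h2.trans e) h1'
        · simp [ChevalleyDatum.xMat, Matrix.one_apply, -Array.getD_eq_getD_getElem?, h1, h1', h2, h s h0, h0,
            Fin.ext_iff]

/-- A column that is not moved. -/
theorem x_col (hr : r < D.nroots) (t : k) (s : Fin D.nroots) (hs : (s : ℕ) ≠ D.neg r)
    (h : ∀ u : Fin D.nroots, D.chainCoeff r s u = []) (row : D.Idx) :
    D.x k r t row (Sum.inr s) = (1 : Matrix D.Idx D.Idx k) row (Sum.inr s) := by
  have hs2 : (s : ℕ) ≠ D.negIdx.getD r 0 := hs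
  rw [ChevalleyDatum.x, dif_pos hr]
  by_cases h1 : s = ⟨r, hr⟩
  · subst h1
    rcases row with j | u <;> simp [ChevalleyDatum.xMat, Matrix.one_apply]
  · have h1' : (s : ℕ) ≠ r := fun e => h1 (Fin.ext e)
    rcases row with j | u
    · simp [ChevalleyDatum.xMat, Matrix.one_apply, -Array.getD_eq_getD_getElem?, h1, hs2]
    · simp [ChevalleyDatum.xMat, Matrix.one_apply, -Array.getD_eq_getD_getElem?, h1, h1', hs2, h u, Fin.ext_iff]

end Entries

theorem sum_row_one {z : D.Idx} {A B : Matrix D.Idx D.Idx k}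
    (h : ∀ j, A z j = (1 : Matrix D.Idx D.Idx k) z j) (c : D.Idx) : (A * B) z c = B z c := by
  rw [Matrix.mul_apply, Finset.sum_eq_single z]
  · rw [h, Matrix.one_apply_eq, one_mul]
  · intro j _ hj
    rw [h, Matrix.one_apply_ne hj.symm, zero_mul]
  · simp

theorem sum_col_one {z : D.Idx} {A B : Matrix D.Idx D.Idx k}
    (h : ∀ j, B j z = (1 : Matrix D.Idx D.Idx k) j z) (c : D.Idx) : (A * B) c z = A c z := by
  rw [Matrix.mul_apply, Finset.sum_eq_single z]
  · rw [h, Matrix.one_apply_eq, mul_one]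
  · intro j _ hj
    rw [h, Matrix.one_apply_ne hj, mul_zero]
  · simp

/-- Matrices with row `z` equal to that of the identity. -/
def rowFix (z : D.Idx) : Subgroup (GL D.Idx k) where
  carrier := {g | ∀ c, (g : Matrix D.Idx D.Idx k) z c = (1 : Matrix D.Idx D.Idx k) z c}
  one_mem' := fun c => rfl
  mul_mem' := fun {g h} hg hh c => by rw [Units.val_mul, sum_row_one hg, hh c]
  inv_mem' := fun {g} hg c => by rw [← sum_row_one (B := (↑g⁻¹ : Matrix D.Idx D.Idx k)) hg, Units.mul_inv]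

/-- Matrices with column `z` equal to that of the identity. -/
def colFix (z : D.Idx) : Subgroup (GL D.Idx k) where
  carrier := {g | ∀ c, (g : Matrix D.Idx D.Idx k) c z = (1 : Matrix D.Idx D.Idx k) c z}
  one_mem' := fun c => rfl
  mul_mem' := fun {g h} hg hh c => by rw [Units.val_mul, sum_col_one hh, hg c]
  inv_mem' := fun {g} hg c => by rw [← sum_col_one (A := (↑g⁻¹ : Matrix D.Idx D.Idx k)) hg, Units.inv_mul]

theorem rowFix_mul {z : D.Idx} {g : GL D.Idx k} (hg : g ∈ rowFix z) (h : GL D.Idx k) (c : D.Idx) :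
    ((g * h : GL D.Idx k) : Matrix D.Idx D.Idx k) z c = (h : Matrix D.Idx D.Idx k) z c := by
  rw [Units.val_mul, sum_row_one hg]

theorem mul_colFix {z : D.Idx} (g : GL D.Idx k) {h : GL D.Idx k} (hh : h ∈ colFix z) (c : D.Idx) :
    ((g * h : GL D.Idx k) : Matrix D.Idx D.Idx k) c z = (g : Matrix D.Idx D.Idx k) c z := by
  rw [Units.val_mul, sum_col_one hh]

variable (hS : Rules D k)

/-- Monomial elements: conjugation and matrix have the same coefficients. -/
def Mon (g : GL D.Idx k) (w : List (Fin D.rank)) : Prop :=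
  ∃ (a : ℕ → k) (hlt : ∀ s : Fin D.nroots, act D w s < D.nroots),
    (∀ s < D.nroots, a (D.neg s) * a s = 1) ∧
    (∀ s < D.nroots, ∀ t : k, g * (glSys hS).x s t * g⁻¹ = (glSys hS).x (act D w s) (a s * t)) ∧
    (∀ (b : D.Idx) (s : Fin D.nroots), (g : Matrix D.Idx D.Idx k) b (Sum.inr s) =
      if b = Sum.inr ⟨act D w s, hlt s⟩ then a s else 0) ∧
    ∀ (s : Fin D.nroots) (j : Fin D.rank), (g : Matrix D.Idx D.Idx k) (Sum.inr s) (Sum.inl j) = 0

section MonSec
include hS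

theorem Mon.mul (hR : RootTable D len) {g h : GL D.Idx k} {w v : List (Fin D.rank)} (hg : Mon hS g w)
    (hh : Mon hS h v) : Mon hS (g * h) (w ++ v) := by
  obtain ⟨a, la, ha, hga, hma, hza⟩ := hg
  obtain ⟨b, lb, hb, hgb, hmb, hzb⟩ := hh
  refine ⟨fun s => a (act D v s) * b s, fun s => hR.act_lt _ s.2, fun s hs => ?_, fun s hs t => ?_,
    fun c s => ?_, fun s j => ?_⟩
  · simp only
    rw [hR.act_neg v hs]
    calc a (D.neg (act D v s)) * b (D.neg s) * (a (act D v s) * b s)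
        = (a (D.neg (act D v s)) * a (act D v s)) * (b (D.neg s) * b s) := by ring
      _ = 1 := by rw [ha _ (hR.act_lt v hs), hb s hs, one_mul]
  · rw [act_append, mul_assoc (a _), ← hga _ (hR.act_lt v hs), ← hgb s hs]
    simp [mul_assoc]
  · rw [Units.val_mul, Matrix.mul_apply, Finset.sum_eq_single (Sum.inr ⟨act D v s, lb s⟩ : D.Idx)]
    · rw [hmb, if_pos rfl, hma]
      simp only [act_append]
      split_ifs with h1 h2 <;> simp_all
    · intro i _ hi
      rw [hmb, if_neg hi, mul_zero]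
    · simp
  · rw [Units.val_mul, Matrix.mul_apply]
    refine Finset.sum_eq_zero fun i _ => ?_
    rcases i with i | i
    · rw [hza, zero_mul]
    · rw [hzb, mul_zero]

theorem mon_nI (hR : RootTable D len) (i : Fin D.rank) : Mon hS ((glSys hS).nI i) [i] := by
  obtain ⟨_, _, hga⟩ := (glSys hS).conjP_nI hS hR i
  refine ⟨fun s => (hS.eta i s : k), fun s => hR.act_lt _ s.2, fun s hs => ?_,
    (glSys hS).conj_all hS hR i ((glSys hS).nEl_mem_rankOne i 1) (Or.inr rfl) _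
      fun s hs t => (glSys hS).θ_nI_conj hS hR i hs t, fun b s => ?_, fun s j => ?_⟩
  · simp only
    rw [hS.eta_neg i hs]
    rcases hS.eta_sq i hs with e | e <;> simp [e]
  · rw [← glSys_mat hS, Sys.nI, (glSys hS).mat_nEl hR (hR.simple_lt i i.2), hS.nMat_col]
    rcases b with b | b <;> simp [act_singleton, Fin.ext_iff]
  · have := (glSys hS).mat_nW_inl hS hR [i] s j
    rwa [Sys.nW_singleton, glSys_mat] at this

theorem mon_one (hR : RootTable D len) : Mon hS (1 : GL D.Idx k) [] := by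
  refine ⟨fun _ => 1, fun s => hR.act_lt _ s.2, by simp, by simp [act_nil], fun b s => ?_, fun s j => by simp⟩
  rw [Units.val_one, Matrix.one_apply]
  by_cases hb : b = Sum.inr s <;> simp [hb, act_nil]

theorem mon_nW (hR : RootTable D len) (w : List (Fin D.rank)) : Mon hS ((glSys hS).nW w) w := by
  induction w with
  | nil => exact mon_one hS hR
  | cons i w ih =>
    rw [Sys.nW_cons]
    exact (mon_nI hS hR i).mul hS hR ih

theorem mon_Hbar (hR : RootTable D len) {h : GL D.Idx k} (hh : h ∈ (glSys hS).Hbar) : Mon hS h [] := by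
  have key : ∃ a : ℕ → k, (∀ s < D.nroots, a (D.neg s) * a s = 1) ∧
      (∀ s < D.nroots, ∀ t : k, h * (glSys hS).x s t * h⁻¹ = (glSys hS).x s (a s * t)) ∧
      (h : Matrix D.Idx D.Idx k) = Matrix.diagonal (Sum.elim (fun _ => (1 : k)) fun s : Fin D.nroots => a s) := by
    refine Subgroup.closure_induction ?_ ?_ ?_ ?_ hh
    · rintro _ ⟨i, c, hc, rfl⟩
      refine ⟨fun s => c ^ D.cartan i s, fun s hs => ?_,
        fun s hs t => (glSys hS).conjP_hI hS hR i hc s hs t, ?_⟩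
      · simp only
        rw [hR.cartan_neg i.2 hs, zpow_neg, inv_mul_cancel₀ (zpow_ne_zero _ hc)]
      · rw [← glSys_mat hS, (glSys hS).mat_hEl hR (hR.simple_lt i i.2), hS.hMat_simple i i.2 c hc]
    · refine ⟨fun _ => 1, by simp, by simp, ?_⟩
      rw [Units.val_one, show (Sum.elim (fun _ => (1 : k)) fun _ : Fin D.nroots => (1 : k)) =
        fun _ : D.Idx => (1 : k) from funext fun a => by cases a <;> rfl, Matrix.diagonal_one]
    · rintro x y _ _ ⟨a, ha, hxa, ea⟩ ⟨b, hb, hyb, eb⟩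
      refine ⟨fun s => a s * b s, fun s hs => ?_, fun s hs t => ?_, ?_⟩
      · calc a (D.neg s) * b (D.neg s) * (a s * b s) = (a (D.neg s) * a s) * (b (D.neg s) * b s) := by ring
          _ = 1 := by rw [ha s hs, hb s hs, one_mul]
      · rw [mul_assoc (a s), ← hxa s hs, ← hyb s hs]
        group
      · rw [Units.val_mul, ea, eb, Matrix.diagonal_mul_diagonal]
        congr 1
        funext z
        cases z <;> simp
    · rintro x _ ⟨a, ha, hxa, ea⟩
      refine ⟨fun s => a (D.neg s), fun s hs => ?_, fun s hs t => ?_, ?_⟩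
      · simp only
        rw [hR.neg_neg_root hs, mul_comm, ha s hs]
      · have e := hxa s hs (a (D.neg s) * t)
        rw [← mul_assoc, mul_comm (a s), ha s hs, one_mul] at e
        rw [← e]
        group
      · refine (left_inv_eq_right_inv (Units.inv_mul x) ?_)
        rw [ea, Matrix.diagonal_mul_diagonal, ← Matrix.diagonal_one]
        congr 1
        funext z
        rcases z with z | z
        · simp
        · simp only [Sum.elim_inr]
          rw [mul_comm, ha z z.2]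
  obtain ⟨a, ha, hc, he⟩ := key
  refine ⟨a, fun s => hR.act_lt _ s.2, ha, fun s hs t => by rw [act_nil]; exact hc s hs t, fun b s => ?_,
    fun s j => by simp [he, Matrix.diagonal_apply]⟩
  rw [he]
  by_cases hb : b = Sum.inr s
  · subst hb; simp [act_nil]
  · rw [Matrix.diagonal_apply_ne _ hb, if_neg (by simpa [act_nil] using hb)]

end MonSec

namespace Top

variable {T : Top D} (hT : T.ok) (hR : RootTable D len)

theorem th_lt (hT : T.ok) : T.th < D.nroots := hT.1.1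
theorem ga_lt (hT : T.ok) : T.ga < D.nroots := hT.1.2.1
theorem a_lt (hT : T.ok) (hR : RootTable D len) : T.a < D.nroots := hR.simple_lt _ hT.1.2.2.1
theorem a_pos (hT : T.ok) (hR : RootTable D len) : D.IsPosRoot T.a := hR.simple_pos ⟨_, hT.1.2.2.1⟩

/-- The row index of `-th`. -/
def nth (T : Top D) (hT : T.ok) (hR : RootTable D len) : Fin D.nroots := ⟨D.neg T.th, hR.neg_lt _ hT.1.1⟩

/-- The row index of `-ga`. -/
def nga (T : Top D) (hT : T.ok) (hR : RootTable D len) : Fin D.nroots := ⟨D.neg T.ga, hR.neg_lt _ hT.1.2.1⟩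

/-- The column index of `th`. -/
def tth (T : Top D) (hT : T.ok) : Fin D.nroots := ⟨T.th, hT.1.1⟩

include hT hR

theorem neg_not_pos {r s : ℕ} (hr : D.IsPosRoot r) (hs : D.IsPosRoot s) : D.neg s ≠ r := fun e =>
  hR.not_pos_and_neg hr (e ▸ (hR.neg_neg_iff hs.1).2 hs)

theorem row_nth {r : ℕ} (hr : D.IsPosRoot r) (t : k) (c : D.Idx) :
    D.x k r t (Sum.inr (T.nth hT hR)) c = (1 : Matrix D.Idx D.Idx k) (Sum.inr (T.nth hT hR)) c :=
  x_row hr.1 t _ (neg_not_pos hT hR hr hT.1.2.2.2.2.1)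
    (fun _ => chainCoeff_eq_nil fun e he q hq hz => absurd hz (hT.2.2.2.2.2.1 r hr.1 hr e he q hq).1) c

theorem col_th {r : ℕ} (hr : D.IsPosRoot r) (t : k) (c : D.Idx) :
    D.x k r t c (Sum.inr (T.tth hT)) = (1 : Matrix D.Idx D.Idx k) c (Sum.inr (T.tth hT)) :=
  x_col hr.1 t _ (fun e => neg_not_pos hT hR hT.1.2.2.2.2.1 hr e.symm)
    (fun _ => chainCoeff_eq_nil fun e he _ _ _ => hT.2.2.2.2.1 r hr.1 hr e he) c

theorem commute_th {r : ℕ} (hr : D.IsPosRoot r) (t t' : k) :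
    Commute ((glSys hS).x r t) ((glSys hS).x T.th t') := by
  by_cases e : r = T.th
  · subst e
    exact ((glSys hS).x_add _ hr.1 t t').trans
      ((congrArg ((glSys hS).x T.th) (add_comm t t')).trans ((glSys hS).x_add _ hr.1 t' t).symm)
  · have h := (glSys hS).comm r hr.1 T.th hT.1.1 (Ne.symm e)
      (fun e' => neg_not_pos hT hR hT.1.2.2.2.2.1 hr e'.symm) t t'
    rw [ChevalleyDatum.commWord, hT.2.2.1 r hr.1 hr e] at h
    simpa [Commute, SemiconjBy] using h.symm

theorem Ubar_props {u : GL D.Idx k} (hu : u ∈ (glSys hS).Ubar) :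
    u ∈ rowFix (Sum.inr (T.nth hT hR)) ∧ u ∈ colFix (Sum.inr (T.tth hT)) ∧
      ∀ t, Commute u ((glSys hS).x T.th t) := by
  refine Subgroup.closure_induction ?_ ?_ ?_ ?_ hu
  · rintro _ ⟨r, hr, t, rfl⟩
    refine ⟨fun c => ?_, fun c => ?_, fun t' => commute_th hS hT hR hr t t'⟩
    · rw [← glSys_mat hS, (glSys hS).mat_x hr.1]; exact row_nth hT hR hr t c
    · rw [← glSys_mat hS, (glSys hS).mat_x hr.1]; exact col_th hT hR hr t c
  · exact ⟨one_mem _, one_mem _, fun t => Commute.one_left _⟩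
  · exact fun _ _ _ _ hx hy => ⟨mul_mem hx.1 hy.1, mul_mem hx.2.1 hy.2.1, fun t => (hx.2.2 t).mul_left (hy.2.2 t)⟩
  · exact fun _ _ hx => ⟨inv_mem hx.1, inv_mem hx.2.1, fun t => (hx.2.2 t).inv_left⟩

/-- The cell decomposition seen from the extreme row and column. -/
theorem exists_factor {g : GL D.Idx k} (hg : g ∈ D.group k) :
    ∃ u ∈ (glSys hS).Ubar, ∃ n, ∃ w, Mon hS n w ∧ ∃ v ∈ (glSys hS).Ubar, g = u * n * v := by
  rw [group_eq hS] at hg
  obtain ⟨b, hb, w, -, v, hv, rfl⟩ := (glSys hS).mem_NF hS hR hg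
  obtain ⟨u, hu, h, hh, rfl⟩ := ((glSys hS).mem_Bbar hS hR).1 hb
  exact ⟨u, hu, h * (glSys hS).nW w, _, (mon_Hbar hS hR hh).mul hS hR (mon_nW hS hR w), v,
    (glSys hS).US_mono (fun r h => h.1) hv, by group⟩

/-- An element with non-zero extreme entry moves `x_th(1)` to a conjugate of `x_{-th}(c)`. -/
theorem cell {g : GL D.Idx k} (hg : g ∈ D.group k) {c : k}
    (hc : (g : Matrix D.Idx D.Idx k) (Sum.inr (T.nth hT hR)) (Sum.inr (T.tth hT)) = c) (hc0 : c ≠ 0) :
    ∃ u ∈ (glSys hS).Ubar,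
      g * (glSys hS).x T.th 1 * g⁻¹ = u * (glSys hS).x (D.neg T.th) c * u⁻¹ ∧
      ∀ z, (g : Matrix D.Idx D.Idx k) z (Sum.inr (T.tth hT)) =
        c * (u : Matrix D.Idx D.Idx k) z (Sum.inr (T.nth hT hR)) := by
  obtain ⟨u, hu, n, w, ⟨a, la, -, hna, hma, -⟩, v, hv, rfl⟩ := exists_factor hS hT hR hg
  obtain ⟨hur, -, -⟩ := Ubar_props hS hT hR hu
  obtain ⟨-, hvc, hvx⟩ := Ubar_props hS hT hR hv
  rw [mul_colFix _ hvc, rowFix_mul hur, hma] at hc
  split_ifs at hc with hw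
  · have hw' : act D w T.th = D.neg T.th := (congrArg Fin.val (Sum.inr.inj hw)).symm
    refine ⟨u, hu, ?_, fun z => ?_⟩
    · have e := hna T.th hT.1.1 1
      rw [hw', mul_one, show a T.th = c from hc] at e
      rw [← e]
      calc u * n * v * (glSys hS).x T.th 1 * (u * n * v)⁻¹
          = u * n * (v * (glSys hS).x T.th 1 * v⁻¹) * n⁻¹ * u⁻¹ := by group
        _ = u * n * ((glSys hS).x T.th 1) * n⁻¹ * u⁻¹ := by rw [(hvx 1).eq, mul_inv_cancel_right]
        _ = _ := by group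
    · rw [mul_colFix _ hvc, Units.val_mul, Matrix.mul_apply]
      simp only [hma, mul_ite, mul_zero, Finset.sum_ite_eq', Finset.mem_univ, if_true, ← hw]
      rw [show a (T.tth hT : ℕ) = c from hc]
      exact mul_comm _ _
  · exact absurd hc.symm hc0

include hS in
/-- An element fixing the extreme row fixes the extreme column. -/
theorem col_of_row {g : GL D.Idx k} (hg : g ∈ D.group k)
    (hrow : g ∈ rowFix (Sum.inr (T.nth hT hR))) : g ∈ colFix (Sum.inr (T.tth hT)) := by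
  classical
  obtain ⟨u, hu, n, w, ⟨a, la, ha, -, hma, hza⟩, v, hv, rfl⟩ := exists_factor hS hT hR hg
  obtain ⟨hur, huc, -⟩ := Ubar_props hS hT hR hu
  obtain ⟨hvr, hvc, -⟩ := Ubar_props hS hT hR hv
  obtain ⟨z, hz⟩ : ∃ z : Fin D.nroots, act D w z = T.nth hT hR :=
    ⟨⟨_, hR.act_lt w.reverse (T.nth hT hR).2⟩, hR.act_act_reverse w (T.nth hT hR).2⟩
  have hnr : ∀ i : D.Idx, (n : Matrix D.Idx D.Idx k) (Sum.inr (T.nth hT hR)) i =
      if i = Sum.inr z then a z else 0 := by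
    rintro (i | i)
    · simp [hza]
    · rw [hma]
      by_cases e : i = z
      · subst e; simp [Fin.ext_iff, hz]
      · rw [if_neg, if_neg (by simpa using e)]
        intro h
        exact e (Fin.ext (hR.act_inj w i.2 z.2 (by rw [hz]; exact (congrArg Fin.val (Sum.inr.inj h)).symm)))
  have hv1 : (v : Matrix D.Idx D.Idx k) (Sum.inr z) (Sum.inr z) = 1 := by
    have := ((glSys hS).raise_Ubar hR hv).eq_one_apply (a := Sum.inr z) (b := Sum.inr z) (by omega)
    rwa [glSys_mat, Matrix.one_apply_eq] at this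
  have key : ∀ c, (1 : Matrix D.Idx D.Idx k) (Sum.inr (T.nth hT hR)) c = a z * (v : Matrix D.Idx D.Idx k) (Sum.inr z) c := by
    intro c
    rw [← hrow c, mul_assoc, rowFix_mul hur, Units.val_mul, Matrix.mul_apply]
    simp only [hnr, ite_mul, zero_mul, Finset.sum_ite_eq', Finset.mem_univ, if_true]
  have hk := key (Sum.inr z)
  rw [hv1, mul_one, Matrix.one_apply] at hk
  split_ifs at hk with hzn
  · obtain rfl : T.nth hT hR = z := Sum.inr.inj hzn
    have ha1 : a T.th = 1 := by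
      have := ha T.th hT.1.1
      rw [show a (D.neg T.th) = 1 from hk.symm, one_mul] at this
      exact this
    have hwth : act D w T.th = T.th := by
      have h1 : act D w (D.neg T.th) = D.neg T.th := hz
      rw [hR.act_neg w hT.1.1] at h1
      rw [← hR.neg_neg_root (hR.act_lt w hT.1.1), h1, hR.neg_neg_root hT.1.1]
    intro c
    rw [mul_colFix _ hvc, Units.val_mul, Matrix.mul_apply]
    simp only [hma, mul_ite, mul_zero, Finset.sum_ite_eq', Finset.mem_univ, if_true]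
    rw [show (⟨act D w (T.tth hT), la (T.tth hT)⟩ : Fin D.nroots) = T.tth hT from Fin.ext hwth,
      show a (T.tth hT : ℕ) = 1 from ha1, mul_one, huc c]
  · exact absurd hk.symm (right_ne_zero_of_mul_eq_one (ha z z.2))

end Top

end Cfsg.Agent.Known.SubG
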